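import Cfsg.Agent.LieRecognition.ReeSetup
import Cfsg.Agent.LieRecognition.ReeFinal
import Cfsg.Agent.H147.ReeInvol
import Cfsg.Agent.LFourB.KSL
import Cfsg.Agent.H708.ReeSix_m3
import Cfsg.Agent.FastGrp
import Cfsg.Agent.Prune
set_option linter.all false

section
prune_inst 0x7ffefdf9cbbc9ddfffff7e7faefcdffdfcb9bfffe6dff9cbffe061ff8bdf5b8acbe5fb8f0fe8d0fe0ef6e23c10f87b53fbfffeffeb6ffc7ffffdfff45ffbffdfedf7bd0971d69c3e0fbc2fff83f0778e7f3fffffffffffffffffffffffffffbeffbfffffffff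

-- part: H708/ReeGen
section
prune_inst 0x2022441200000000000510300020144400019200200001d8c00642024613000040090040801d10100822002800000000100040001000000000000000000000802a400292080104240007802084000000000000000000000000000000041004000000000
set_option linter.all false
open scoped Cfsg.Agent.FastGrp

/-!
# Small Ree groups: a factorization (helper708)

`G` a group with the Bruhat normal form of `²G₂(q)`, `E` a Sylow 2-subgroup (of order 8) containing `a = h (-1)`, `Y` the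
torus of order `(q + 1) / 4` in the centraliser of a four-group of `E`.  If a subgroup `M` contains `E` and `Y` and is
normalised by `N(E)`, then it contains the centralisers of the involutions of `E` and `G = M B`, `B` the Borel subgroup.
-/

set_option autoImplicit false
set_option linter.unusedSectionVars false

namespace Cfsg.Agent.H708.ReeSix

open Cfsg.Agent.LieRecognition Cfsg.Agent.LieRecognition.ReeInv Cfsg.Agent.LieRecognition.ReeTorusB
open Subgroup

section loc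

variable {G : Type*} [Group G] {L : Type*} [Group L] {q : ℕ} {a : G} {f : L →* G} {i j u t₀ : L} {T : Subgroup L}

/-- the four-group of `L` -/
def K4 (hk : KleinData L i j u) : Subgroup L where
  carrier := {x | x = 1 ∨ x = i ∨ x = j ∨ x = i * j}
  one_mem' := Or.inl rfl
  mul_mem' := by
    have h1 := hk.ii
    have h2 := hk.jj
    have h3 := hk.ij
    have h4 : j * i = i * j := h3.symm
    have h5 : i * (i * j) = j := by rw [← mul_assoc, h1, one_mul]
    have h6 : j * (i * j) = i := by rw [← mul_assoc, h4, mul_assoc, h2, mul_one]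
    have h7 : i * j * i = j := by rw [mul_assoc, h4, h5]
    have h8 : i * j * j = i := by rw [mul_assoc, h2, mul_one]
    have h9 : i * j * (i * j) = 1 := by rw [← mul_assoc, h7, h2]
    rintro x y (rfl | rfl | rfl | rfl) (rfl | rfl | rfl | rfl) <;>
      simp only [one_mul, mul_one, Set.mem_ofPred_eq, h1, h2, h4, h5, h6, h7, h8, h9, true_or,
        or_true]
  inv_mem' := by
    have i1 : i⁻¹ = i := inv_eq_of_mul_eq_one_left hk.ii
    have i2 : j⁻¹ = j := inv_eq_of_mul_eq_one_left hk.jj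
    rintro x (rfl | rfl | rfl | rfl)
    · simp
    · rw [i1]; right; left; rfl
    · rw [i2]; right; right; left; rfl
    · rw [mul_inv_rev, i1, i2, ← hk.ij]; right; right; right; rfl

theorem mem_K4 (hk : KleinData L i j u) {x : L} : x ∈ K4 hk ↔ x = 1 ∨ x = i ∨ x = j ∨ x = i * j := Iff.rfl

theorem K4_sq (hk : KleinData L i j u) {x : L} (hx : x ∈ K4 hk) : x * x = 1 := by
  rcases (mem_K4 hk).1 hx with rfl | rfl | rfl | rfl
  · simp
  · exact hk.ii
  · exact hk.jj
  · calc i * j * (i * j) = i * (j * i) * j := by group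
      _ = i * (i * j) * j := by rw [hk.ij]
      _ = (i * i) * (j * j) := by group
      _ = 1 := by rw [hk.ii, hk.jj, one_mul]

theorem ij_ne_one (hk : KleinData L i j u) : i * j ≠ 1 := by
  intro h
  apply hk.ne
  calc i = (i * j) * j⁻¹ := by group
    _ = j⁻¹ := by rw [h, one_mul]
    _ = j := inv_eq_of_mul_eq_one_left hk.jj

theorem card_K4 (hk : KleinData L i j u) : Nat.card (K4 hk) = 4 := by
  have h1 : (K4 hk : Set L) = ({1, i, j, i * j} : Set L) := by
    ext x
    simp only [SetLike.mem_coe, mem_K4, Set.mem_insert_iff, Set.mem_singleton_iff]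
  have h2 : Nat.card (K4 hk) = Set.ncard (K4 hk : Set L) := rfl
  rw [h2, h1]
  have h3 : (1 : L) ∉ ({i, j, i * j} : Set L) := by
    simp only [Set.mem_insert_iff, Set.mem_singleton_iff, not_or]
    exact ⟨fun h => hk.i_ne h.symm, fun h => hk.j_ne h.symm, fun h => ij_ne_one hk h.symm⟩
  have h4 : i ∉ ({j, i * j} : Set L) := by
    simp only [Set.mem_insert_iff, Set.mem_singleton_iff, not_or]
    exact ⟨hk.ne, fun h => hk.j_ne (mul_eq_left.1 h.symm)⟩
  have h5 : j ≠ i * j := fun h => hk.i_ne (mul_eq_right.1 h.symm)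
  rw [Set.ncard_insert_of_notMem h3 (Set.toFinite _), Set.ncard_insert_of_notMem h4 (Set.toFinite _),
    Set.ncard_pair h5]

theorem K4_conj (hk : KleinData L i j u) {x : L} (hx : x ∈ K4 hk) : u⁻¹ * x * u ∈ K4 hk := by
  have h1 : u⁻¹ * j * u = i := by rw [← hk.uiu]; group
  have h2 : u⁻¹ * (i * j) * u = j := by rw [← hk.uju]; group
  have h3 : u⁻¹ * i * u = i * j := by
    have : u⁻¹ * i * u = (u⁻¹ * (i * j) * u) * (u⁻¹ * j * u)⁻¹ := by group
    rw [this, h2, h1, inv_eq_of_mul_eq_one_left hk.ii, hk.ij]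
  rcases (mem_K4 hk).1 hx with rfl | rfl | rfl | rfl
  · simp [(K4 hk).one_mem]
  · rw [h3]; exact (mem_K4 hk).2 (Or.inr (Or.inr (Or.inr rfl)))
  · rw [h1]; exact (mem_K4 hk).2 (Or.inr (Or.inl rfl))
  · rw [h2]; exact (mem_K4 hk).2 (Or.inr (Or.inr (Or.inl rfl)))

variable (S : Setup G L q a f i j u t₀ T)

/-- the elementary abelian group of order eight -/
def E8 : Subgroup G where
  carrier := {x | ∃ l ∈ K4 S.hk, x = f l ∨ x = a * f l}
  one_mem' := ⟨1, (K4 S.hk).one_mem, Or.inl (map_one f).symm⟩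
  mul_mem' := by
    have haa := S.hc.sq
    rintro x y ⟨l, hl, rfl | rfl⟩ ⟨l', hl', rfl | rfl⟩
    · exact ⟨l * l', (K4 S.hk).mul_mem hl hl', Or.inl (map_mul f _ _).symm⟩
    · refine ⟨l * l', (K4 S.hk).mul_mem hl hl', Or.inr ?_⟩
      rw [map_mul, ← mul_assoc, ← S.hc.comm, mul_assoc]
    · refine ⟨l * l', (K4 S.hk).mul_mem hl hl', Or.inr ?_⟩
      rw [map_mul, mul_assoc]
    · refine ⟨l * l', (K4 S.hk).mul_mem hl hl', Or.inl ?_⟩
      calc a * f l * (a * f l') = a * (f l * a) * f l' := by group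
        _ = (a * a) * (f l * f l') := by rw [← S.hc.comm]; group
        _ = f (l * l') := by rw [haa, one_mul, map_mul]
  inv_mem' := by
    have i1 : a⁻¹ = a := inv_eq_of_mul_eq_one_left S.hc.sq
    rintro x ⟨l, hl, rfl | rfl⟩
    · exact ⟨l⁻¹, (K4 S.hk).inv_mem hl, Or.inl (map_inv f _).symm⟩
    · refine ⟨l⁻¹, (K4 S.hk).inv_mem hl, Or.inr ?_⟩
      rw [mul_inv_rev, i1, ← map_inv, S.hc.comm]

theorem mem_E8 {x : G} : x ∈ E8 S ↔ ∃ l ∈ K4 S.hk, x = f l ∨ x = a * f l := Iff.rfl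

theorem E8_sq {x : G} (hx : x ∈ E8 S) : x * x = 1 := by
  obtain ⟨l, hl, rfl | rfl⟩ := (mem_E8 S).1 hx
  · rw [← map_mul, K4_sq S.hk hl, map_one]
  · calc a * f l * (a * f l) = a * (f l * a) * f l := by group
      _ = (a * a) * (f l * f l) := by rw [← S.hc.comm]; group
      _ = 1 := by rw [S.hc.sq, one_mul, ← map_mul, K4_sq S.hk hl, map_one]

theorem a_mem_E8 : a ∈ E8 S := ⟨1, (K4 S.hk).one_mem, Or.inr (by rw [map_one, mul_one])⟩

theorem f_mem_E8 {l : L} (hl : l ∈ K4 S.hk) : f l ∈ E8 S := ⟨l, hl, Or.inl rfl⟩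

theorem V_le_E8 : S.V ≤ E8 S := by
  intro x hx
  have hi : i ∈ K4 S.hk := (mem_K4 S.hk).2 (Or.inr (Or.inl rfl))
  rcases S.mem_V.1 hx with rfl | rfl | rfl | rfl
  · exact (E8 S).one_mem
  · exact a_mem_E8 S
  · exact f_mem_E8 S hi
  · exact (E8 S).mul_mem (a_mem_E8 S) (f_mem_E8 S hi)

theorem fj_mem_E8 : f j ∈ E8 S := f_mem_E8 S ((mem_K4 S.hk).2 (Or.inr (Or.inr (Or.inl rfl))))

theorem E8_cov {x : G} (hx : x ∈ E8 S) : x ∈ S.V ∨ ∃ v ∈ S.V, x = v * f j := by
  have hjj : f j * f j = 1 := by rw [← map_mul, S.hk.jj, map_one]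
  obtain ⟨l, hl, h⟩ := (mem_E8 S).1 hx
  rcases (mem_K4 S.hk).1 hl with rfl | rfl | rfl | rfl
  · left
    rcases h with rfl | rfl
    · rw [map_one]; exact S.V.one_mem
    · rw [map_one, mul_one]; exact S.a_mem
  · left
    rcases h with rfl | rfl
    · exact S.b_mem
    · exact S.V.mul_mem S.a_mem S.b_mem
  · right
    rcases h with rfl | rfl
    · exact ⟨1, S.V.one_mem, by rw [one_mul]⟩
    · exact ⟨a, S.a_mem, rfl⟩
  · right
    rcases h with rfl | rfl
    · exact ⟨f i, S.b_mem, by rw [map_mul]⟩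
    · exact ⟨a * f i, S.V.mul_mem S.a_mem S.b_mem, by rw [map_mul, mul_assoc]⟩

theorem card_E8 [Finite G] : Nat.card (E8 S) = 8 := by
  have hLfin : Finite L := Finite.of_injective f S.hc.inj
  have e : (K4 S.hk) × Bool ≃ E8 S := Equiv.ofBijective
    (fun p => ⟨if p.2 then a * f p.1 else f p.1, by
      refine ⟨p.1, p.1.2, ?_⟩
      cases p.2
      · left; rfl
      · right; rfl⟩) ⟨by
    rintro ⟨⟨l, hl⟩, b⟩ ⟨⟨l', hl'⟩, b'⟩ h
    have h1 := congrArg Subtype.val h
    cases b <;> cases b' <;> simp only [Bool.false_eq_true, if_false, if_true] at h1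
    · rw [Prod.mk.injEq]; exact ⟨Subtype.ext (S.hc.inj h1), rfl⟩
    · exfalso
      apply S.hc.not_mem (l * l'⁻¹)
      rw [map_mul, h1, map_inv, mul_inv_cancel_right]
    · exfalso
      apply S.hc.not_mem (l' * l⁻¹)
      rw [map_mul, ← h1, map_inv, mul_inv_cancel_right]
    · rw [Prod.mk.injEq]; exact ⟨Subtype.ext (S.hc.inj (mul_left_cancel h1)), rfl⟩, by
    rintro ⟨x, l, hl, rfl | rfl⟩
    · exact ⟨(⟨l, hl⟩, false), rfl⟩
    · exact ⟨(⟨l, hl⟩, true), rfl⟩⟩
  rw [← Nat.card_congr e, Nat.card_prod, card_K4, Nat.card_eq_fintype_card, Fintype.card_bool]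

theorem fu_norm {x : G} (hx : x ∈ E8 S) : (f u)⁻¹ * x * f u ∈ E8 S := by
  obtain ⟨l, hl, rfl | rfl⟩ := (mem_E8 S).1 hx
  · exact ⟨_, K4_conj S.hk hl, Or.inl (by rw [map_mul, map_mul, map_inv])⟩
  · refine ⟨_, K4_conj S.hk hl, Or.inr ?_⟩
    rw [map_mul, map_mul, map_inv]
    have h1 := S.hc.comm u⁻¹
    rw [map_inv] at h1
    rw [← mul_assoc, ← h1]
    simp only [mul_assoc]

variable {M : Subgroup G} (hE : E8 S ≤ M) (hY : f t₀ ^ 2 ∈ M)
  (hN : ∀ x : G, (∀ s ∈ E8 S, x⁻¹ * s * x ∈ E8 S) → ∀ k ∈ M, x * k * x⁻¹ ∈ M)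

include hE hY hN

theorem f_mem_of [Finite G] (hq : 3 < q) (hco : IsCoatom (centralizer ({i} : Set L))) (l : L) : f l ∈ M := by
  have hLfin : Finite L := Finite.of_injective f S.hc.inj
  set M1 : Subgroup L := M.comap f with hM1
  have hmem : ∀ l : L, l ∈ M1 ↔ f l ∈ M := fun _ => Iff.rfl
  have hiM : i ∈ M1 := hE (f_mem_E8 S ((mem_K4 S.hk).2 (Or.inr (Or.inl rfl))))
  have hjM : j ∈ M1 := hE (fj_mem_E8 S)
  have hTM : ∀ t ∈ T, t ∈ M1 := by
    have h1 : zpowers (t₀ ^ 2) ≤ M1 := by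
      rw [zpowers_le, hmem, map_pow]
      exact hY
    intro t ht
    obtain ⟨r, hr, rfl | rfl⟩ := S.mem_T_cases ht
    · exact h1 hr
    · exact M1.mul_mem hiM (h1 hr)
  have hle : centralizer ({i} : Set L) ≤ M1 := by
    intro x hx
    rw [mem_centralizer_singleton_iff] at hx
    rcases S.ht.cent_i x hx with h | h
    · exact hTM x h
    · have : x = (x * j) * j := by rw [mul_assoc, S.hk.jj, mul_one]
      rw [this]
      exact M1.mul_mem (hTM _ h) hjM
  have huM : u * t₀ * u⁻¹ ∈ M1 := by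
    rw [hmem, map_mul, map_mul, map_inv]
    exact hN (f u) (fun s hs => fu_norm S hs) _ (hTM t₀ S.t0_mem)
  have htop : M1 = ⊤ := by
    rcases hco.le_iff.1 hle with h | h
    · exact h
    · exfalso
      rw [h, mem_centralizer_singleton_iff] at huM
      have h1 : t₀ * i = i * t₀ := S.T_comm S.t0_mem S.ht.i_mem
      have h2 : (u * t₀ * u⁻¹) * j = j * (u * t₀ * u⁻¹) := by
        rw [← S.hk.uiu]
        calc (u * t₀ * u⁻¹) * (u * i * u⁻¹) = u * (t₀ * i) * u⁻¹ := by group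
          _ = (u * i * u⁻¹) * (u * t₀ * u⁻¹) := by rw [h1]; group
      have h3 := K4_sq S.hk ((mem_K4 S.hk).2 (S.hk.cent _ huM h2))
      have h4 : t₀ * t₀ = 1 := by
        have : t₀ * t₀ = u⁻¹ * ((u * t₀ * u⁻¹) * (u * t₀ * u⁻¹)) * u := by group
        rw [this, h3]; group
      have h5 : orderOf t₀ ≤ 2 := Nat.le_of_dvd (by norm_num) (orderOf_dvd_of_pow_eq_one (by rw [pow_two, h4]))
      have h6 := S.orderOf_t0
      omega
  have h1 : l ∈ M1 := by rw [htop]; exact mem_top l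
  exact h1

theorem cent_le_of [Finite G] (hq : 3 < q) (hco : IsCoatom (centralizer ({i} : Set L))) {x : G}
    (hx : x * a = a * x) : x ∈ M := by
  obtain ⟨l, rfl | rfl⟩ := S.hc.surj x hx
  · exact f_mem_of S hE hY hN hq hco l
  · exact M.mul_mem (hE (a_mem_E8 S)) (f_mem_of S hE hY hN hq hco l)

/-- all involutions of `E` are conjugate in `M` -/
theorem conj_E8 [Finite G] (hq : 3 < q) (hco : IsCoatom (centralizer ({i} : Set L)))
    {g : G} (hg : ∀ s ∈ E8 S, g⁻¹ * s * g ∈ E8 S) (hg7 : g ^ 7 = 1) (hfix : ∀ s ∈ E8 S, g⁻¹ * s * g = s → s = 1)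
    {x : G} (hx : x ∈ E8 S) (hx1 : x ≠ 1) : ∃ k ∈ M, x = k * a * k⁻¹ := by
  classical
  have hfL := f_mem_of S hE hY hN hq hco
  have hi1 : f i ≠ 1 := S.b_ne
  have hKI : ∀ l ∈ K4 S.hk, l ≠ 1 → ∃ k ∈ M, f l = k * f i * k⁻¹ := by
    intro l hl hl1
    obtain ⟨k, hk⟩ := S.conjL l hl1 (K4_sq S.hk hl)
    exact ⟨f k, hfL k, by rw [← hk, map_mul, map_mul, map_inv]⟩
  have hpow : ∀ n : ℕ, ∀ s ∈ E8 S, (g ^ n)⁻¹ * s * g ^ n ∈ E8 S := by
    intro n
    induction n with
    | zero => intro s hs; simpa using hs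
    | succ n ih =>
      intro s hs
      have : (g ^ (n + 1))⁻¹ * s * g ^ (n + 1) = g⁻¹ * ((g ^ n)⁻¹ * s * g ^ n) * g := by rw [pow_succ]; group
      rw [this]
      exact hg _ (ih s hs)
  -- `g⁻¹ (f i) g` is conjugate to `f i` in `M`
  have hfin : Finite (E8 S) := inferInstance
  have hginv : ∀ s ∈ E8 S, g * s * g⁻¹ ∈ E8 S := by
    intro s hs
    have h1 := hpow 6 s hs
    have h2 : g ^ 6 = g⁻¹ := by
      rw [eq_inv_iff_mul_eq_one, ← pow_succ, hg7]
    rwa [h2, inv_inv] at h1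
  have step : ∃ k ∈ M, g⁻¹ * f i * g = k * f i * k⁻¹ := by
    -- a common element of `f K4` and its conjugate
    have hex : ∃ l ∈ K4 S.hk, ∃ l' ∈ K4 S.hk, l ≠ 1 ∧ l' ≠ 1 ∧ g⁻¹ * f l * g = f l' := by
      by_contra hcon
      push Not at hcon
      have hinj : Function.Injective (fun p : K4 S.hk × K4 S.hk =>
          (⟨(g⁻¹ * f p.1 * g) * f p.2, (E8 S).mul_mem (hg _ (f_mem_E8 S p.1.2)) (f_mem_E8 S p.2.2)⟩ : E8 S)) := by
        rintro ⟨⟨l, hl⟩, l₁, hl₁⟩ ⟨⟨l', hl'⟩, l₁', hl₁'⟩ h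
        have h1 : g⁻¹ * f l * g * f l₁ = g⁻¹ * f l' * g * f l₁' := congrArg Subtype.val h
        have h2 : g⁻¹ * f (l'⁻¹ * l) * g = f (l₁' * l₁⁻¹) := by
          rw [map_mul, map_mul, map_inv, map_inv]
          calc g⁻¹ * ((f l')⁻¹ * f l) * g = (g⁻¹ * f l' * g)⁻¹ * (g⁻¹ * f l * g * f l₁) * (f l₁)⁻¹ := by group
            _ = f l₁' * (f l₁)⁻¹ := by rw [h1]; group
        have h3 : l'⁻¹ * l = 1 := by
          by_contra h4
          by_cases h5 : l₁' * l₁⁻¹ = 1
          · rw [h5, map_one] at h2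
            apply h4
            apply S.hc.inj
            rw [map_one]
            calc f (l'⁻¹ * l) = g * (g⁻¹ * f (l'⁻¹ * l) * g) * g⁻¹ := by group
              _ = 1 := by rw [h2]; group
          · exact hcon _ ((K4 S.hk).mul_mem ((K4 S.hk).inv_mem hl') hl) _ ((K4 S.hk).mul_mem hl₁' ((K4 S.hk).inv_mem hl₁))
              h4 h5 h2
        have h4 : l = l' := (inv_mul_eq_one.1 h3).symm
        subst h4
        have h5 := S.hc.inj (mul_left_cancel h1)
        subst h5
        rfl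
      have hc := Nat.card_le_card_of_injective _ hinj
      rw [Nat.card_prod, card_K4, card_E8 S] at hc
      omega
    obtain ⟨l, hl, l', hl', h1, h1', he⟩ := hex
    obtain ⟨k, hk, hkl⟩ := hKI l hl h1
    obtain ⟨k', hk', hkl'⟩ := hKI l' hl' h1'
    -- `g⁻¹ (f l) g = f l'`
    have hNg : g⁻¹ * k⁻¹ * g ∈ M := by
      have := hN g⁻¹ (fun s hs => by rw [inv_inv]; exact hginv s hs) k⁻¹ (M.inv_mem hk)
      rwa [inv_inv] at this
    refine ⟨(g⁻¹ * k⁻¹ * g) * k', M.mul_mem hNg hk', ?_⟩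
    calc g⁻¹ * f i * g = (g⁻¹ * k⁻¹ * g) * (g⁻¹ * (k * f i * k⁻¹) * g) * (g⁻¹ * k⁻¹ * g)⁻¹ := by group
      _ = (g⁻¹ * k⁻¹ * g) * (k' * f i * k'⁻¹) * (g⁻¹ * k⁻¹ * g)⁻¹ := by rw [← hkl, he, hkl']
      _ = _ := by group
  have hall : ∀ n : ℕ, ∃ k ∈ M, (g ^ n)⁻¹ * f i * g ^ n = k * f i * k⁻¹ := by
    intro n
    induction n with
    | zero => exact ⟨1, M.one_mem, by simp⟩
    | succ n ih =>
      obtain ⟨k, hk, hke⟩ := ih
      obtain ⟨k', hk', hke'⟩ := step
      have hNg : g⁻¹ * k * g ∈ M := by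
        have := hN g⁻¹ (fun s hs => by rw [inv_inv]; exact hginv s hs) k hk
        rwa [inv_inv] at this
      refine ⟨(g⁻¹ * k * g) * k', M.mul_mem hNg hk', ?_⟩
      have h1 : (g ^ (n + 1))⁻¹ * f i * g ^ (n + 1) = g⁻¹ * ((g ^ n)⁻¹ * f i * g ^ n) * g := by
        rw [pow_succ]; group
      rw [h1, hke]
      calc g⁻¹ * (k * f i * k⁻¹) * g = (g⁻¹ * k * g) * (g⁻¹ * f i * g) * (g⁻¹ * k * g)⁻¹ := by group
        _ = (g⁻¹ * k * g) * (k' * f i * k'⁻¹) * (g⁻¹ * k * g)⁻¹ := by rw [hke']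
        _ = _ := by group
  -- transitivity
  have htr : ∀ z ∈ E8 S, z ≠ 1 → ∃ n : ℕ, (g ^ n)⁻¹ * f i * g ^ n = z := by
    have hfixn : ∀ n : ℕ, 0 < n → n < 7 → ∀ z ∈ E8 S, (g ^ n)⁻¹ * z * g ^ n = z → z = 1 := by
      intro n h0 h7 z hz h
      -- `g` is a power of `g ^ n`
      have hcop : Nat.Coprime n 7 := by
        interval_cases n <;> decide
      obtain ⟨m, hm⟩ := Nat.exists_mul_mod_eq_one_of_coprime hcop (by norm_num)
      have h1 : g = (g ^ n) ^ m := by
        rw [← pow_mul, ← Nat.div_add_mod (n * m) 7, hm.2, pow_add, pow_mul, hg7, one_pow, one_mul, pow_one]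
      have h2 : Commute (g ^ n) z := by
        show g ^ n * z = z * g ^ n
        calc g ^ n * z = g ^ n * ((g ^ n)⁻¹ * z * g ^ n) := by rw [h]
          _ = z * g ^ n := by group
      have h3 : Commute g z := by
        rw [h1]
        exact h2.pow_left m
      apply hfix z hz
      rw [mul_assoc, ← h3.eq]
      group
    have hinj : Function.Injective (fun n : Fin 7 => (⟨⟨(g ^ (n : ℕ))⁻¹ * f i * g ^ (n : ℕ), hpow n _
        (V_le_E8 S S.b_mem)⟩, fun h => hi1 (by
          have h1 : (g ^ (n : ℕ))⁻¹ * f i * g ^ (n : ℕ) = 1 := congrArg Subtype.val h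
          calc f i = g ^ (n : ℕ) * ((g ^ (n : ℕ))⁻¹ * f i * g ^ (n : ℕ)) * (g ^ (n : ℕ))⁻¹ := by group
            _ = 1 := by rw [h1]; group)⟩ : {x : E8 S // x ≠ 1})) := by
      have key : ∀ n m : Fin 7, (n : ℕ) < m → (g ^ (n : ℕ))⁻¹ * f i * g ^ (n : ℕ) ≠
          (g ^ (m : ℕ))⁻¹ * f i * g ^ (m : ℕ) := by
        intro n m hnm h
        have h1 := hfixn ((m : ℕ) - n) (by omega) (by omega) (f i) (V_le_E8 S S.b_mem) (by
          have h2 : g ^ (m : ℕ) = g ^ ((m : ℕ) - n) * g ^ (n : ℕ) := by rw [← pow_add]; congr 1; omega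
          rw [h2] at h
          calc (g ^ ((m : ℕ) - n))⁻¹ * f i * g ^ ((m : ℕ) - n) = g ^ (n : ℕ) * ((g ^ ((m : ℕ) - n) * g ^ (n : ℕ))⁻¹ *
                f i * (g ^ ((m : ℕ) - n) * g ^ (n : ℕ))) * (g ^ (n : ℕ))⁻¹ := by group
            _ = f i := by rw [← h]; group)
        exact hi1 h1
      intro n m h
      have h1 : (g ^ (n : ℕ))⁻¹ * f i * g ^ (n : ℕ) = (g ^ (m : ℕ))⁻¹ * f i * g ^ (m : ℕ) :=
        congrArg (fun x : {x : E8 S // x ≠ 1} => ((x : E8 S) : G)) h
      rcases lt_trichotomy (n : ℕ) m with h2 | h2 | h2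
      · exact absurd h1 (key n m h2)
      · exact Fin.ext h2
      · exact absurd h1.symm (key m n h2)
    have := Fintype.ofFinite (E8 S)
    have hcard : Fintype.card {x : E8 S // x ≠ 1} = 7 := by
      rw [Fintype.card_subtype_compl, Fintype.card_subtype_eq, ← Nat.card_eq_fintype_card, card_E8 S]
    have hbij := (Fintype.bijective_iff_injective_and_card _).2 ⟨hinj, by rw [Fintype.card_fin, hcard]⟩
    intro z hz hz1
    obtain ⟨n, hn⟩ := hbij.2 ⟨⟨z, hz⟩, fun h => hz1 (congrArg Subtype.val h)⟩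
    exact ⟨n, congrArg (fun x : {x : E8 S // x ≠ 1} => ((x : E8 S) : G)) hn⟩
  obtain ⟨n, hn⟩ := htr x hx hx1
  obtain ⟨n', hn'⟩ := htr a (a_mem_E8 S) S.hc.ne_one
  obtain ⟨k, hk, hke⟩ := hall n
  obtain ⟨k', hk', hke'⟩ := hall n'
  refine ⟨k * k'⁻¹, M.mul_mem hk (M.inv_mem hk'), ?_⟩
  rw [← hn, hke, ← hn', hke']
  group

/-- involutions commuting with `a` are conjugate to `a` in `M` -/
theorem conj_cent [Finite G] (hq : 3 < q) (hco : IsCoatom (centralizer ({i} : Set L)))
    {g : G} (hg : ∀ s ∈ E8 S, g⁻¹ * s * g ∈ E8 S) (hg7 : g ^ 7 = 1) (hfix : ∀ s ∈ E8 S, g⁻¹ * s * g = s → s = 1)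
    {z : G} (hz : z * a = a * z) (hz1 : z ≠ 1) (hzz : z * z = 1) : ∃ k ∈ M, z = k * a * k⁻¹ := by
  have hfL := f_mem_of S hE hY hN hq hco
  have key : ∀ l : L, l * l = 1 → ∀ ε : G, (ε = 1 ∨ ε = a) → ε * f l ≠ 1 → ∃ k ∈ M, ε * f l = k * a * k⁻¹ := by
    intro l hl ε hε hne
    have hεc : ∀ l, ε * f l = f l * ε := by
      intro l
      rcases hε with rfl | rfl
      · simp
      · exact S.hc.comm l
    have hεE : ε ∈ E8 S := by
      rcases hε with rfl | rfl
      · exact (E8 S).one_mem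
      · exact a_mem_E8 S
    by_cases h1 : l = 1
    · subst h1
      exact conj_E8 S hE hY hN hq hco hg hg7 hfix (by rw [map_one, mul_one]; exact hεE) hne
    · obtain ⟨k, hk⟩ := S.conjL l h1 hl
      have hmem : ε * f i ∈ E8 S := (E8 S).mul_mem hεE (V_le_E8 S S.b_mem)
      have hne' : ε * f i ≠ 1 := by
        intro h
        apply hne
        rw [← hk, map_mul, map_mul, map_inv]
        calc ε * (f k * f i * (f k)⁻¹) = f k * (ε * f i) * (f k)⁻¹ := by
              rw [← mul_assoc, ← mul_assoc, hεc k]; group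
          _ = 1 := by rw [h]; group
      obtain ⟨k', hk', hke⟩ := conj_E8 S hE hY hN hq hco hg hg7 hfix hmem hne'
      refine ⟨f k * k', M.mul_mem (hfL k) hk', ?_⟩
      rw [← hk, map_mul, map_mul, map_inv]
      calc ε * (f k * f i * (f k)⁻¹) = f k * (ε * f i) * (f k)⁻¹ := by
            rw [← mul_assoc, ← mul_assoc, hεc k]; group
        _ = _ := by rw [hke]; group
  obtain ⟨l, h | h⟩ := S.hc.surj z hz
  · have hl : l * l = 1 := S.hc.inj (by rw [map_mul, ← h, hzz, map_one])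
    have := key l hl 1 (Or.inl rfl) (by rw [one_mul, ← h]; exact hz1)
    rwa [one_mul, ← h] at this
  · have hl : l * l = 1 := S.hc.inj (by
      rw [map_mul, map_one]
      have h1 : f l = a * z := by rw [h, ← mul_assoc, S.hc.sq, one_mul]
      rw [h1]
      calc a * z * (a * z) = a * (z * a) * z := by group
        _ = (a * a) * (z * z) := by rw [hz]; group
        _ = 1 := by rw [S.hc.sq, hzz, one_mul])
    have := key l hl a (Or.inr rfl) (by rw [← h]; exact hz1)
    rwa [← h] at this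

end loc

section fac

open Cfsg.Agent.LieRecognition.ReeAbs

variable {K : Type*} [Field K] [Fintype K] {G : Type*} [Group G] {m : ℕ}
  {U : K → K → K → G} {h : Kˣ → G} {n : G}

theorem mem_bSub (D : ReeAbs.Data m U h n) {g : G} : g ∈ ReeSplit.bSub D ↔ ∃ t u v a, g = U t u v * h a := Iff.rfl

theorem U_mem_bSub (D : ReeAbs.Data m U h n) (t u v : K) : U t u v ∈ ReeSplit.bSub D :=
  ⟨t, u, v, 1, by rw [D.h_one, mul_one]⟩

theorem h_mem_bSub (D : ReeAbs.Data m U h n) (a : Kˣ) : h a ∈ ReeSplit.bSub D :=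
  ⟨0, 0, 0, a, by rw [D.U_zero, one_mul]⟩

/-- the involutions of the Borel subgroup are conjugate in it -/
theorem conj_bSub (D : ReeAbs.Data m U h n) (hK : Fintype.card K = 3 ^ (2 * m + 1)) {w : G}
    (hw : w ∈ ReeSplit.bSub D) (hw1 : w ≠ 1) (hww : w * w = 1) :
    ∃ b ∈ ReeSplit.bSub D, w = b * h (-1) * b⁻¹ := by
  obtain ⟨t, u, v, a, rfl⟩ := (mem_bSub D).1 hw
  obtain ⟨rfl, hu⟩ := (Cfsg.Agent.H147.ReeInvol.inv_iff D hK t u v a).1 ⟨hw1, hww⟩
  have h3 : (3 : K) = 0 := by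
    have := charP_three hK
    exact CharP.cast_eq_zero K 3
  refine ⟨U (-t) 0 (u * t - v), U_mem_bSub D _ _ _, ?_⟩
  rw [eq_mul_inv_iff_mul_eq, mul_assoc, D.inv_mul_U, ← mul_assoc, D.U_mul]
  congr 2
  · linear_combination t * h3
  · rw [neg_neg, hu]; ring
  · rw [neg_neg]
    linear_combination (v - u * t) * h3

/-- an involution of the Borel subgroup commuting with a given involution -/
theorem exists_comm (D : ReeAbs.Data m U h n) (hK : Fintype.card K = 3 ^ (2 * m + 1)) {y : G} (hy1 : y ≠ 1)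
    (hyy : y * y = 1) : ∃ w ∈ ReeSplit.bSub D, w ≠ 1 ∧ w * w = 1 ∧ w * y = y * w := by
  rcases D.bruhat y with ⟨t, u, v, a, rfl⟩ | ⟨t, u, v, a, t', u', v', hy⟩
  · exact ⟨_, (mem_bSub D).2 ⟨t, u, v, a, rfl⟩, hy1, hyy, rfl⟩
  · set p := U t' u' v' with hp
    have hpB : p ∈ ReeSplit.bSub D := U_mem_bSub D _ _ _
    set x := U t' u' v' * U t u v with hx
    obtain ⟨t₁, u₁, v₁, hx₁⟩ : ∃ t₁ u₁ v₁, x = U t₁ u₁ v₁ := ⟨_, _, _, D.U_mul _ _ _ _ _ _⟩
    have hy' : p * y * p⁻¹ = U t₁ u₁ v₁ * h a * n := by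
      rw [hy, ← hx₁, hx, hp]; group
    have hsq : (U t₁ u₁ v₁ * h a * n) * (U t₁ u₁ v₁ * h a * n) = 1 := by
      rw [← hy']
      calc p * y * p⁻¹ * (p * y * p⁻¹) = p * (y * y) * p⁻¹ := by group
        _ = 1 := by rw [hyy]; group
    -- the inverse of `x` is in `U`
    obtain ⟨t₂, u₂, v₂, hx₂⟩ : ∃ t₂ u₂ v₂, (U t₁ u₁ v₁)⁻¹ = U t₂ u₂ v₂ := by
      have h1 : U t₁ u₁ v₁ ∈ ReeSylowThree.uSub D := ⟨t₁, u₁, v₁, rfl⟩
      obtain ⟨t₂, u₂, v₂, h2⟩ := (ReeSylowThree.uSub D).inv_mem h1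
      exact ⟨t₂, u₂, v₂, h2⟩
    have h1 : U t₁ u₁ v₁ * h a * n * U 0 0 0 = U 0 0 0 * h a * n * U t₂ u₂ v₂ := by
      rw [D.U_zero, mul_one, one_mul, ← hx₂]
      have e := eq_inv_of_mul_eq_one_left hsq
      calc U t₁ u₁ v₁ * h a * n = (U t₁ u₁ v₁ * h a * n)⁻¹ := e
        _ = n⁻¹ * (h a)⁻¹ * (U t₁ u₁ v₁)⁻¹ := by group
        _ = n * h a⁻¹ * (U t₁ u₁ v₁)⁻¹ := by rw [D.n_inv, D.h_inv]
        _ = h a * n * (U t₁ u₁ v₁)⁻¹ := by rw [D.n_h, inv_inv]
    obtain ⟨rfl, rfl, rfl, -⟩ := D.inj₂ _ _ _ _ _ _ _ _ _ _ _ _ _ _ h1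
    rw [D.U_zero, one_mul] at hy'
    refine ⟨p⁻¹ * h (-1) * p, ?_, ?_, ?_, ?_⟩
    · exact mul_mem (mul_mem (inv_mem hpB) (h_mem_bSub D _)) hpB
    · intro hh
      apply D.inv_ne_one hK
      calc h (-1) = p * (p⁻¹ * h (-1) * p) * p⁻¹ := by group
        _ = 1 := by rw [hh]; group
    · calc p⁻¹ * h (-1) * p * (p⁻¹ * h (-1) * p) = p⁻¹ * (h (-1) * h (-1)) * p := by group
        _ = 1 := by rw [D.inv_sq]; group
    · have hcomm : h (-1) * (h a * n) = (h a * n) * h (-1) := by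
        rw [← mul_assoc, D.h_comm, mul_assoc, D.inv_mul_n, mul_assoc]
      have hy2 : y = p⁻¹ * (h a * n) * p := by rw [← hy']; group
      calc p⁻¹ * h (-1) * p * y = p⁻¹ * (h (-1) * (h a * n)) * p := by rw [hy2]; group
        _ = y * (p⁻¹ * h (-1) * p) := by rw [hcomm, hy2]; group

/-- **The factorization.** -/
theorem factor [Finite G] {L : Type*} [Group L] {q : ℕ} {f : L →* G} {i j u t₀ : L} {T : Subgroup L}
    (D : ReeAbs.Data m U h n) (hK : Fintype.card K = 3 ^ (2 * m + 1)) (S : Setup G L q (h (-1)) f i j u t₀ T)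
    {M : Subgroup G} (hE : E8 S ≤ M) (hY : f t₀ ^ 2 ∈ M)
    (hN : ∀ x : G, (∀ s ∈ E8 S, x⁻¹ * s * x ∈ E8 S) → ∀ k ∈ M, x * k * x⁻¹ ∈ M)
    (hq : 3 < q) (hco : IsCoatom (centralizer ({i} : Set L)))
    {g : G} (hg : ∀ s ∈ E8 S, g⁻¹ * s * g ∈ E8 S) (hg7 : g ^ 7 = 1) (hfix : ∀ s ∈ E8 S, g⁻¹ * s * g = s → s = 1)
    (x : G) : ∃ k ∈ M, ∃ b ∈ ReeSplit.bSub D, x = k * b := by
  obtain ⟨w, hwB, hw1, hww, hwy⟩ := exists_comm D hK (y := x⁻¹ * h (-1) * x)
    (by
      intro hh
      apply D.inv_ne_one hK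
      calc h (-1) = x * (x⁻¹ * h (-1) * x) * x⁻¹ := by group
        _ = 1 := by rw [hh]; group)
    (by
      calc x⁻¹ * h (-1) * x * (x⁻¹ * h (-1) * x) = x⁻¹ * (h (-1) * h (-1)) * x := by group
        _ = 1 := by rw [D.inv_sq]; group)
  obtain ⟨k, hk, hke⟩ := conj_cent S hE hY hN hq hco hg hg7 hfix (z := x * w * x⁻¹)
    (by
      calc x * w * x⁻¹ * h (-1) = x * (w * (x⁻¹ * h (-1) * x)) * x⁻¹ := by group
        _ = h (-1) * (x * w * x⁻¹) := by rw [hwy]; group)
    (by
      intro hh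
      apply hw1
      calc w = x⁻¹ * (x * w * x⁻¹) * x := by group
        _ = 1 := by rw [hh]; group)
    (by
      calc x * w * x⁻¹ * (x * w * x⁻¹) = x * (w * w) * x⁻¹ := by group
        _ = 1 := by rw [hww]; group)
  obtain ⟨b, hb, hbe⟩ := conj_bSub D hK hwB hw1 hww
  have hc : (k⁻¹ * x * b) * h (-1) = h (-1) * (k⁻¹ * x * b) := by
    calc (k⁻¹ * x * b) * h (-1) = k⁻¹ * (x * (b * h (-1) * b⁻¹) * x⁻¹) * x * b := by group
      _ = h (-1) * (k⁻¹ * x * b) := by rw [← hbe, hke]; group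
  have hmem := cent_le_of S hE hY hN hq hco hc
  refine ⟨k * (k⁻¹ * x * b), M.mul_mem hk hmem, b⁻¹, inv_mem hb, ?_⟩
  group

end fac

end Cfsg.Agent.H708.ReeSix

private theorem dce_95283ec8b50e : _root_.True := by
  try have : _root_.True := by simp only [_root_.Cfsg.Agent.H708.ReeSix.K4.congr_simp]
  try have : _root_.True := by simp only [_root_.Cfsg.Agent.H708.ReeSix.E8.congr_simp]
  exact _root_.True.intro
end

-- part: H708/WtLoc
section
prune_inst 0x10202304302200000018000020000024400000000043000008a004020801024020000e013290051010180cc060000000001000000000000000000000400001000001000200100800000006000804000000000000000000000000000000000004000000000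
set_option linter.all false
open scoped Cfsg.Agent.FastGrp

/-!
# A torus normalised by an element of order three and multiplicity one weights

Continuation of `WtSeven`: `S ≤ G` elementary abelian of order `8`, `g` of order `7` acting on `S` without fixed points.
If the representation has degree at most `13`, then non-trivial weights of `S` have multiplicity one, and

* `exists_fixed` : `S` has a non-zero fixed vector if the degree is at least `8`;
* `fix_of_loc` : an element `y` of odd order centralised by the hyperplane `V` of `S`, inverted by `s ∈ S ∖ V`, and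
  normalised by an element `r` of order three acting on `⟨y⟩` without fixed points and normalising `V`, fixes all fixed
  vectors of `V`.
-/

set_option autoImplicit false

namespace Cfsg.Agent.H708.ReeSix

section eig

variable {K : Type*} [Field K] {M : Type*} [AddCommGroup M] [Module K M]

theorem pow_apply_of_sq {f : Module.End K M} {v : M} (h : f (f v - v) = f v - v) (n : ℕ) :
    (f ^ n) v = v + (n : K) • (f v - v) := by
  induction n with
  | zero => simp
  | succ n ih =>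
    have h1 : f v = v + (f v - v) := by abel
    rw [pow_succ', Module.End.mul_apply, ih, map_add, map_smul, h]
    nth_rewrite 1 [h1]
    rw [Nat.cast_succ, add_smul, one_smul]
    abel

theorem exists_eig [IsAlgClosed K] [FiniteDimensional K M] {f : Module.End K M} {k : ℕ} (hk : (k : K) ≠ 0)
    (hf : f ^ k = 1) {W : Submodule K M} (hW : ∀ w ∈ W, f w ∈ W) {v : M} (hv : v ∈ W) (hne : f v ≠ v) :
    ∃ u ∈ W, u ≠ 0 ∧ ∃ ζ : K, ζ ≠ 1 ∧ f u = ζ • u := by
  set W' : Submodule K M := W.map (f - 1) with hW'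
  have hW'W : W' ≤ W := by
    rintro _ ⟨w, hw, rfl⟩
    exact W.sub_mem (hW w hw) hw
  have hinv : ∀ w ∈ W', f w ∈ W' := by
    rintro _ ⟨w, hw, rfl⟩
    refine ⟨f w, hW w hw, ?_⟩
    simp [LinearMap.sub_apply, map_sub]
  have hnt : Nontrivial W' := by
    refine ⟨⟨⟨(f - 1) v, v, hv, rfl⟩, 0, fun h => hne ?_⟩⟩
    have h1 : (f - 1) v = 0 := congrArg Subtype.val h
    rw [LinearMap.sub_apply, Module.End.one_apply, sub_eq_zero] at h1
    exact h1
  obtain ⟨ζ, hζ⟩ := Module.End.exists_eigenvalue (f.restrict hinv)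
  obtain ⟨⟨u, huW⟩, hu⟩ := hζ.exists_hasEigenvector
  have hu0 : u ≠ 0 := fun h => hu.2 (Subtype.ext h)
  have hfu : f u = ζ • u := congrArg Subtype.val hu.apply_eq_smul
  refine ⟨u, hW'W huW, hu0, ζ, ?_, hfu⟩
  rintro rfl
  obtain ⟨w, -, hw⟩ := huW
  rw [LinearMap.sub_apply, Module.End.one_apply] at hw
  rw [one_smul, ← hw] at hfu
  have h1 := pow_apply_of_sq hfu k
  rw [hf, Module.End.one_apply, left_eq_add, smul_eq_zero, hw] at h1
  exact h1.elim hk hu0

end eig

section wt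

variable {F : Type*} [Field F] {V : Type*} [AddCommGroup V] [Module F V] {G : Type*} [Group G]
  (ρ : G →* Module.End F V) {S : Subgroup G}

theorem wt_of {v : V} (hv : v ≠ 0) (h : ∀ s : S, ∃ c : F, ρ s v = c • v) : ∃ χ : S →* F, ∀ s : S, ρ s v = χ s • v := by
  choose c hc using h
  have hinj : ∀ a b : F, a • v = b • v → a = b := fun a b h => smul_left_injective F hv h
  exact ⟨{ toFun := c
           map_one' := by
             apply hinj
             rw [← hc, one_smul, Subgroup.coe_one, map_one, Module.End.one_apply]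
           map_mul' := fun s t => by
             apply hinj
             rw [← hc, Subgroup.coe_mul, map_mul, Module.End.mul_apply, hc t, map_smul, hc s, smul_smul, mul_comm] },
    hc⟩

theorem comm_of_sq (hS : ∀ s ∈ S, s * s = 1) : ∀ s ∈ S, ∀ t ∈ S, s * t = t * s := by
  intro s hs t ht
  have h1 := hS _ (S.mul_mem hs ht)
  have hsi : s⁻¹ = s := inv_eq_of_mul_eq_one_left (hS s hs)
  have hti : t⁻¹ = t := inv_eq_of_mul_eq_one_left (hS t ht)
  have h3 : (s * t)⁻¹ = s * t := inv_eq_of_mul_eq_one_left h1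
  rw [mul_inv_rev, hsi, hti] at h3
  exact h3.symm

theorem span_wt (h2 : (2 : F) ≠ 0) (hS : ∀ s ∈ S, s * s = 1) (T : Finset S) :
    Submodule.span F {w : V | ∀ t ∈ T, ρ (t : G) w = w ∨ ρ (t : G) w = -w} = ⊤ := by
  classical
  have hcomm := comm_of_sq hS
  have hss : ∀ t ∈ S, ∀ v, ρ t (ρ t v) = v := by
    intro t ht v
    rw [← Module.End.mul_apply, ← map_mul, hS t ht, map_one, Module.End.one_apply]
  induction T using Finset.induction_on with
  | empty => simp
  | insert t T _ ih =>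
    rw [eq_top_iff, ← ih, Submodule.span_le]
    intro w hw
    have key : ∀ x ∈ T, ρ (x : G) (ρ (t : G) w) = ρ (t : G) w ∨ ρ (x : G) (ρ (t : G) w) = -ρ (t : G) w := by
      intro x hx
      rw [← Module.End.mul_apply, ← map_mul, hcomm x x.2 t t.2, map_mul, Module.End.mul_apply]
      rcases hw x hx with h | h
      · left; rw [h]
      · right; rw [h, map_neg]
    have h1 : w + ρ (t : G) w ∈ Submodule.span F {w : V | ∀ x ∈ insert t T, ρ (x : G) w = w ∨ ρ (x : G) w = -w} := by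
      apply Submodule.subset_span
      intro x hx
      rcases Finset.mem_insert.1 hx with rfl | hx
      · left; rw [map_add, hss _ x.2, add_comm]
      · rcases hw x hx with h | h
        · left
          rw [map_add, h, ← Module.End.mul_apply, ← map_mul, hcomm x x.2 t t.2, map_mul, Module.End.mul_apply, h]
        · right
          rw [map_add, h, ← Module.End.mul_apply, ← map_mul, hcomm x x.2 t t.2, map_mul, Module.End.mul_apply, h, map_neg,
            neg_add]
    have h3 : w - ρ (t : G) w ∈ Submodule.span F {w : V | ∀ x ∈ insert t T, ρ (x : G) w = w ∨ ρ (x : G) w = -w} := by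
      apply Submodule.subset_span
      intro x hx
      rcases Finset.mem_insert.1 hx with rfl | hx
      · right; rw [map_sub, hss _ x.2, neg_sub]
      · rcases hw x hx with h | h
        · left
          rw [map_sub, h, ← Module.End.mul_apply, ← map_mul, hcomm x x.2 t t.2, map_mul, Module.End.mul_apply, h]
        · right
          rw [map_sub, h, ← Module.End.mul_apply, ← map_mul, hcomm x x.2 t t.2, map_mul, Module.End.mul_apply, h, map_neg,
            neg_sub, sub_neg_eq_add, neg_add_eq_sub]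
    have h4 : w = (2 : F)⁻¹ • ((w + ρ (t : G) w) + (w - ρ (t : G) w)) := by
      have : (w + ρ (t : G) w) + (w - ρ (t : G) w) = (2 : F) • w := by rw [two_smul]; abel
      rw [this, smul_smul, inv_mul_cancel₀ h2, one_smul]
    rw [SetLike.mem_coe, h4]
    exact Submodule.smul_mem _ _ (Submodule.add_mem _ h1 h3)

theorem exists_fixed [Finite S] [Module.Finite F V] (h2 : (2 : F) ≠ 0) (h8 : Nat.card S = 8) (hS : ∀ s ∈ S, s * s = 1)
    {g : G} (hg : ∀ s ∈ S, g⁻¹ * s * g ∈ S) (hg7 : g ^ 7 = 1) (hfix : ∀ s ∈ S, g⁻¹ * s * g = s → s = 1)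
    (hn : Module.finrank F V < 14) (hn8 : 8 ≤ Module.finrank F V) : ∃ v : V, v ≠ 0 ∧ ∀ s ∈ S, ρ s v = v := by
  classical
  have := Fintype.ofFinite S
  have hsp := span_wt ρ h2 hS Finset.univ
  obtain ⟨b, hb, hbs, hbi⟩ := exists_linearIndependent F {w : V | ∀ t ∈ (Finset.univ : Finset S), ρ (t : G) w = w ∨
    ρ (t : G) w = -w}
  rw [hsp] at hbs
  have hfinb : Finite b := hbi.finite
  have := Fintype.ofFinite b
  have hcard : Fintype.card b = Module.finrank F V := by
    have := finrank_span_set_eq_card hbi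
    rw [hbs, finrank_top] at this
    rw [this, Set.toFinset_card]
  have hne : ∀ x : b, (x : V) ≠ 0 := fun x => hbi.ne_zero x
  have hwt : ∀ x : b, ∃ χ : S →* F, ∀ s : S, ρ s (x : V) = χ s • (x : V) := by
    intro x
    refine wt_of ρ (hne x) fun s => ?_
    rcases hb x.2 s (Finset.mem_univ s) with h | h
    · exact ⟨1, by rw [h, one_smul]⟩
    · exact ⟨-1, by rw [h, neg_one_smul]⟩
  choose χ hχ using hwt
  by_contra hcon
  push Not at hcon
  have hχ1 : ∀ x, χ x ≠ 1 := by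
    intro x h
    obtain ⟨s, hs, hsx⟩ := hcon x (hne x)
    apply hsx
    have := hχ x ⟨s, hs⟩
    rwa [h, MonoidHom.one_apply, one_smul] at this
  have hinj : Function.Injective χ := by
    intro x y hxy
    by_contra hne'
    have hlin : LinearIndependent F ![(x : V), (y : V)] := by
      have h1 := hbi.comp ![x, y] (by
        intro i j hij
        fin_cases i <;> fin_cases j
        · rfl
        · exact absurd hij hne'
        · exact absurd hij.symm hne'
        · rfl)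
      convert h1 using 1
      ext i
      fin_cases i <;> rfl
    have h := bound ρ h2 hS hg hg7 hfix (hχ1 x) hlin (fun j s => by
      fin_cases j
      · exact hχ x s
      · change ρ s (y : V) = χ x s • (y : V)
        rw [hxy]
        exact hχ y s)
    rw [Fintype.card_fin] at h
    omega
  let ψ : Option b → (S →* F) := fun o => o.elim 1 χ
  have hψ : Function.Injective ψ := by
    rintro (_ | x) (_ | y) h
    · rfl
    · exact absurd h.symm (hχ1 y)
    · exact absurd h (hχ1 x)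
    · exact congrArg some (hinj h)
  have hl := (linearIndependent_monoidHom S F).comp ψ hψ
  have hle := hl.fintype_card_le_finrank
  rw [Module.finrank_fintype_fun_eq_card, Fintype.card_option, ← Nat.card_eq_fintype_card (α := S), h8, hcard] at hle
  omega

end wt

section loc

variable {K : Type*} [Field K] {M : Type*} [AddCommGroup M] [Module K M] {G : Type*} [Group G]
  (ρ : G →* Module.End K M) {S V : Subgroup G}

theorem fix_of_loc [IsAlgClosed K] [FiniteDimensional K M] [Finite S] (h2 : (2 : K) ≠ 0)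
    (hn : Module.finrank K M < 14) (hS : ∀ s ∈ S, s * s = 1)
    {g : G} (hg : ∀ s ∈ S, g⁻¹ * s * g ∈ S) (hg7 : g ^ 7 = 1) (hfix : ∀ s ∈ S, g⁻¹ * s * g = s → s = 1)
    (hVS : V ≤ S) {s : G} (hs : s ∈ S) (hcov : ∀ x ∈ S, x ∈ V ∨ ∃ v ∈ V, x = v * s) {y : G}
    (hyV : ∀ v ∈ V, v * y = y * v) (hk : ((orderOf y : ℕ) : K) ≠ 0) (hodd : Odd (orderOf y))
    (hsy : s * y * s⁻¹ = y⁻¹) {r : G} (hr3 : r ^ 3 = 1) (hrV : ∀ v ∈ V, r⁻¹ * v * r ∈ V) {j : ℕ}
    (hry : r⁻¹ * y * r = y ^ j) (hrf : ∀ i : ℕ, r⁻¹ * y ^ i * r = y ^ i → y ^ i = 1) {v : M}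
    (hv : ∀ b ∈ V, ρ b v = v) : ρ y v = v := by
  classical
  by_contra hne
  have hcomm := comm_of_sq hS
  have hss := hS s hs
  have hsi : s⁻¹ = s := inv_eq_of_mul_eq_one_left hss
  let W : Submodule K M :=
    { carrier := {v | ∀ b ∈ V, ρ b v = v}
      add_mem' := fun {a b} ha hb x hx => by rw [map_add, ha x hx, hb x hx]
      zero_mem' := fun x _ => map_zero _
      smul_mem' := fun c a ha x hx => by rw [map_smul, ha x hx] }
  have hW : ∀ v, v ∈ W ↔ ∀ b ∈ V, ρ b v = v := fun _ => Iff.rfl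
  have hyW : ∀ w ∈ W, ρ y w ∈ W := by
    intro w hw b hb
    rw [← Module.End.mul_apply, ← map_mul, hyV b hb, map_mul, Module.End.mul_apply, hw b hb]
  have hsW : ∀ w ∈ W, ρ s w ∈ W := by
    intro w hw b hb
    rw [← Module.End.mul_apply, ← map_mul, hcomm b (hVS hb) s hs, map_mul, Module.End.mul_apply, hw b hb]
  have hrW : ∀ w ∈ W, ρ r w ∈ W := by
    intro w hw b hb
    have h1 : b * r = r * (r⁻¹ * b * r) := by group
    rw [← Module.End.mul_apply, ← map_mul, h1, map_mul, Module.End.mul_apply, hw _ (hrV b hb)]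
  obtain ⟨u, huW, hu0, ζ, hζ1, hyu⟩ := exists_eig (f := ρ y) hk (by rw [← map_pow, pow_orderOf_eq_one, map_one]) hyW
    (v := v) hv hne
  have hpow : ∀ (w : M) (c : K), ρ y w = c • w → ∀ n : ℕ, ρ (y ^ n) w = c ^ n • w := by
    intro w c hw n
    induction n with
    | zero => simp
    | succ n ih => rw [pow_succ', map_mul, Module.End.mul_apply, ih, map_smul, hw, smul_smul, pow_succ]
  have hinj : ∀ {w : M}, w ≠ 0 → ∀ {a b : K}, a • w = b • w → a = b := fun hw _ _ h => smul_left_injective K hw h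
  have hζk : ζ ^ orderOf y = 1 := by
    apply hinj hu0
    rw [← hpow u ζ hyu, pow_orderOf_eq_one, map_one, Module.End.one_apply, one_smul]
  have hk0 : orderOf y ≠ 0 := fun h => hk (by rw [h, Nat.cast_zero])
  have hζ0 : ζ ≠ 0 := by
    intro h
    rw [h, zero_pow hk0] at hζk
    exact zero_ne_one hζk
  -- the action of `s` and `r` on eigenvectors
  have hsyw : ∀ (w : M) (c : K), c ≠ 0 → ρ y w = c • w → ρ y (ρ s w) = c⁻¹ • ρ s w := by
    intro w c hc hw
    have h1 : y * s = s * y⁻¹ := by rw [← hsy, hsi]; simp only [mul_assoc, ← mul_assoc s s, hss, one_mul]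
    have h3 : ρ y⁻¹ w = c⁻¹ • w := by
      have h4 : ρ y⁻¹ (ρ y w) = w := by
        rw [← Module.End.mul_apply, ← map_mul, inv_mul_cancel, map_one, Module.End.one_apply]
      rw [hw, map_smul] at h4
      rw [← h4, smul_smul, inv_mul_cancel₀ hc, one_smul, h4]
    rw [← Module.End.mul_apply, ← map_mul, h1, map_mul, Module.End.mul_apply, h3, map_smul]
  have hyu1 : ρ y (ρ r u) = ζ ^ j • ρ r u := by
    have h1 : y * r = r * (r⁻¹ * y * r) := by group
    rw [← Module.End.mul_apply, ← map_mul, h1, hry, map_mul, Module.End.mul_apply, hpow u ζ hyu, map_smul]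
  -- `ζ ^ (j ^ 3) = ζ`
  have hry' : ∀ i : ℕ, r⁻¹ * y ^ i * r = y ^ (j * i) := by
    intro i
    have h1 : r⁻¹ * y ^ i * r = (r⁻¹ * y * r) ^ i := by
      have := conj_pow (a := r⁻¹) (b := y) (i := i)
      rw [inv_inv] at this
      exact this.symm
    rw [h1, hry, ← pow_mul]
  have hj3 : ζ ^ (j * (j * j)) = ζ := by
    apply hinj hu0
    rw [← hpow u ζ hyu, ← hry', ← hry', ← hry]
    have h1 : r⁻¹ * (r⁻¹ * (r⁻¹ * y * r) * r) * r = (r ^ 3)⁻¹ * y * r ^ 3 := by
      simp only [pow_succ, pow_zero, one_mul, mul_inv_rev, mul_assoc]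
    rw [h1, hr3, inv_one, one_mul, mul_one, hyu]
  have hζj : ζ ^ j ≠ ζ := by
    intro h
    set z : Kˣ := Units.mk0 ζ hζ0 with hz
    have hzj : z ^ j = z ^ 1 := Units.ext (by rw [Units.val_pow_eq_pow_val, Units.val_pow_eq_pow_val, pow_one]; exact h)
    have hz1 : z ≠ 1 := fun h => hζ1 (congrArg Units.val h)
    have hzk : z ^ orderOf y = 1 := Units.ext (by rw [Units.val_pow_eq_pow_val]; exact hζk)
    obtain ⟨e, he⟩ := orderOf_dvd_of_pow_eq_one hzk
    have h1 : j ≡ 1 [MOD orderOf z] := pow_eq_pow_iff_modEq.1 hzj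
    have h3 : j * e ≡ 1 * e [MOD orderOf y] := by rw [he]; exact h1.mul_right' e
    have h4 : y ^ (j * e) = y ^ e := by rw [one_mul] at h3; exact pow_eq_pow_iff_modEq.2 h3
    have h5 := hrf e (by rw [hry', h4])
    have h6 := orderOf_dvd_of_pow_eq_one h5
    have he0 : 0 < e := by
      rcases Nat.eq_zero_or_pos e with h | h
      · rw [h, mul_zero] at he; exact absurd he hk0
      · exact h
    have h7 := Nat.le_of_dvd he0 h6
    have h8 : orderOf z ≤ 1 := by
      by_contra hcon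
      push Not at hcon
      have : e * 2 ≤ orderOf z * e := by rw [mul_comm e 2]; exact Nat.mul_le_mul_right e hcon
      omega
    have h9 : orderOf z ≠ 0 := by
      intro h
      rw [h, zero_mul] at he
      exact hk0 he
    exact hz1 (orderOf_eq_one_iff.1 (by omega))
  have hζj1 : ζ ^ j ≠ 1 := by
    intro h
    rw [pow_mul, h, one_pow] at hj3
    exact hζ1 hj3.symm
  have hζji : ζ ^ j ≠ ζ⁻¹ := by
    intro h
    have h1 : ζ ^ (j * j) = ζ := by rw [pow_mul, h, inv_pow, h, inv_inv]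
    rw [mul_comm, pow_mul, h1] at hj3
    exact hζj hj3
  have hsq : ∀ c : K, c ^ orderOf y = 1 → c * c = 1 → c = 1 := by
    intro c hc hcc
    obtain ⟨k, hk⟩ := hodd
    rw [hk, pow_succ, pow_mul, pow_two, hcc, one_pow, one_mul] at hc
    exact hc
  have hζζ : ζ ≠ ζ⁻¹ := by
    intro h
    apply hζ1
    apply hsq ζ hζk
    nth_rewrite 2 [h]
    exact mul_inv_cancel₀ hζ0
  have hζj0 : ζ ^ j ≠ 0 := pow_ne_zero j hζ0
  have hζζj : ζ ^ j ≠ (ζ ^ j)⁻¹ := by
    intro h
    apply hζj1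
    apply hsq (ζ ^ j) (by rw [← pow_mul, mul_comm, pow_mul, hζk, one_pow])
    nth_rewrite 2 [h]
    exact mul_inv_cancel₀ hζj0
  -- four eigenvectors
  have hu1 : ρ r u ≠ 0 := by
    intro h
    apply hu0
    have h1 : ρ r⁻¹ (ρ r u) = u := by
      rw [← Module.End.mul_apply, ← map_mul, inv_mul_cancel, map_one, Module.End.one_apply]
    rw [← h1, h, map_zero]
  have hsne : ∀ w : M, w ≠ 0 → ρ s w ≠ 0 := by
    intro w hw h
    apply hw
    have h1 : ρ s (ρ s w) = w := by
      rw [← Module.End.mul_apply, ← map_mul, hss, map_one, Module.End.one_apply]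
    rw [← h1, h, map_zero]
  have hlin4 : LinearIndependent K ![u, ρ s u, ρ r u, ρ s (ρ r u)] := by
    refine Module.End.eigenvectors_linearIndependent' (ρ y) ![ζ, ζ⁻¹, ζ ^ j, (ζ ^ j)⁻¹] ?_ _ ?_
    · intro a b hab
      have e1 : ζ⁻¹ ≠ (ζ ^ j)⁻¹ := fun h => hζj (inv_injective h).symm
      have e2 : ζ ≠ (ζ ^ j)⁻¹ := fun h => hζji ((congrArg Inv.inv h).trans (inv_inv _)).symm
      fin_cases a <;> fin_cases b
      · rfl
      · exact absurd hab hζζ
      · exact absurd hab.symm hζj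
      · exact absurd hab e2
      · exact absurd hab.symm hζζ
      · rfl
      · exact absurd hab.symm hζji
      · exact absurd hab e1
      · exact absurd hab hζj
      · exact absurd hab hζji
      · rfl
      · exact absurd hab hζζj
      · exact absurd hab.symm e2
      · exact absurd hab.symm e1
      · exact absurd hab.symm hζζj
      · rfl
    · intro i
      rw [Module.End.hasEigenvector_iff, Module.End.mem_eigenspace_iff]
      fin_cases i
      · exact ⟨hyu, hu0⟩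
      · exact ⟨hsyw u ζ hζ0 hyu, hsne u hu0⟩
      · exact ⟨hyu1, hu1⟩
      · exact ⟨hsyw _ _ hζj0 hyu1, hsne _ hu1⟩
  -- two weight vectors
  set e : Fin 2 → M := ![u - ρ s u, ρ r u - ρ s (ρ r u)] with he
  have hlin2 : LinearIndependent K e := by
    rw [he, LinearIndependent.pair_iff]
    intro a b hab
    have h1 := (Fintype.linearIndependent_iff.1 hlin4) ![a, -a, b, -b] (by
      rw [Fin.sum_univ_four]
      simp only [Matrix.cons_val_zero, Matrix.cons_val_one, Matrix.cons_val, neg_smul]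
      rw [smul_sub, smul_sub] at hab
      rw [← hab]
      abel)
    exact ⟨h1 0, h1 2⟩
  have hV : ∀ w ∈ W, ∀ x ∈ V, ρ x (w - ρ s w) = w - ρ s w := by
    intro w hw x hx
    rw [map_sub, hw x hx, hsW w hw x hx]
  have hVs : ∀ w ∈ W, ∀ x ∈ V, ρ (x * s) (w - ρ s w) = -(w - ρ s w) := by
    intro w hw x hx
    have h1 : ρ s (w - ρ s w) = -(w - ρ s w) := by
      rw [map_sub, ← Module.End.mul_apply (ρ s) (ρ s), ← map_mul, hss, map_one, Module.End.one_apply, neg_sub]
    rw [map_mul, Module.End.mul_apply, h1, map_neg, hV w hw x hx]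
  have hru : ρ r u ∈ W := hrW u huW
  have he0 : e 0 ≠ 0 := hlin2.ne_zero 0
  obtain ⟨χ, hχ⟩ := wt_of (S := S) ρ (v := e 0) he0 (fun x => by
    rcases hcov x x.2 with h | ⟨v, hv, hx⟩
    · exact ⟨1, by rw [one_smul]; exact hV u huW x h⟩
    · refine ⟨-1, ?_⟩
      rw [hx, neg_one_smul]
      exact hVs u huW v hv)
  have hχ1 : χ ≠ 1 := by
    intro h
    have h1 := hχ ⟨s, hs⟩
    rw [h, MonoidHom.one_apply, one_smul] at h1
    have h3 := hVs u huW 1 V.one_mem
    rw [one_mul] at h3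
    have h4 : e 0 = -(e 0) := h1.symm.trans h3
    have h5 : (2 : K) • e 0 = 0 := by
      rw [two_smul]
      nth_rewrite 2 [h4]
      exact add_neg_cancel _
    exact he0 ((smul_eq_zero.1 h5).resolve_left h2)
  have h := bound ρ h2 hS hg hg7 hfix hχ1 hlin2 (fun i x => by
    fin_cases i
    · exact hχ x
    · change ρ x (ρ r u - ρ s (ρ r u)) = χ x • (ρ r u - ρ s (ρ r u))
      rcases hcov x x.2 with h | ⟨v, hv, hx⟩
      · have h1 : χ x = 1 := by
          apply hinj he0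
          rw [← hχ, one_smul]
          exact hV u huW x h
        rw [h1, one_smul]
        exact hV _ hru x h
      · have h1 : χ x = -1 := by
          apply hinj he0
          rw [← hχ, neg_one_smul, hx]
          exact hVs u huW v hv
        rw [h1, neg_one_smul, hx]
        exact hVs _ hru v hv)
  rw [Fintype.card_fin] at h
  omega

end loc

end Cfsg.Agent.H708.ReeSix
end

-- part: H708/ReeTw
section
prune_inst 0x200000000000500000020100000000000030000416002000a00404100020600303002000000200040080040000000000000000000008000400001208403400092080104040001000800000000000000000000000000000000000000000000000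
set_option linter.all false
open scoped Cfsg.Agent.FastGrp

/-!
# Ree groups in characteristic three: degree at most 13 is degree 7 (helper708)

`P ≤ GL(ι, F)` a core (`H915.LD.Core`), `char F = 3`, `P` modulo scalars a Ree group `²G₂(3^(2m+1))`, `m ≥ 1`.

* **`ree_eq_seven`** : `|ι| ≤ 13 → |ι| = 7`.

Let `E` be a Sylow 2-subgroup (order 8), `Y` the torus of order `(q + 1) / 4`. If `8 ≤ |ι| ≤ 13`, the non-trivial weights of
`E` have multiplicity one, so `E` fixes a vector `c ≠ 0`, and `Y` centralises the fixed vectors of the four-group that it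
centralises.  Hence the pointwise stabiliser `M` of `C_V(E)` contains `E`, `Y`, it is normalised by `N(E)`, and `G = M B`
(`ReeGen.factor`).  A functional fixed by the Sylow 3-subgroup is then constant on the orbit of `c`, so it is `G`-invariant.
-/

set_option autoImplicit false
set_option linter.unusedSectionVars false

namespace Cfsg.Agent.H708.ReeSix

open Cfsg Cfsg.Geo Matrix Cfsg.Agent.H915.LD
open Cfsg.Agent.LieRecognition

universe u v

theorem exists_dual_fixed {F : Type*} [Field F] [Finite F] {p : ℕ} [hp : Fact p.Prime] [CharP F p] {V : Type*}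
    [AddCommGroup V] [Module F V] [FiniteDimensional F V] [Nontrivial V] {Q : Type*} [Group Q] (hQ : IsPGroup p Q)
    (ρ : Q →* Module.End F V) : ∃ f : Module.Dual F V, f ≠ 0 ∧ ∀ x v, f (ρ x v) = f v := by
  classical
  let act : MulAction Q (Module.Dual F V) :=
    { smul := fun x f => f ∘ₗ ρ x⁻¹
      one_smul := fun f => by
        change f ∘ₗ ρ (1 : Q)⁻¹ = f
        rw [inv_one, map_one]
        rfl
      mul_smul := fun x y f => by
        change f ∘ₗ ρ (x * y)⁻¹ = (f ∘ₗ ρ y⁻¹) ∘ₗ ρ x⁻¹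
        rw [_root_.mul_inv_rev, map_mul]
        rfl }
  have hsm : ∀ (x : Q) (f : Module.Dual F V) (v : V), (x • f) v = f (ρ x⁻¹ v) := fun _ _ _ => rfl
  have hfinV : Finite V := Module.finite_of_finite F
  have hfinD : Finite (Module.Dual F V) := Module.finite_of_finite F
  have hcard : p ∣ Nat.card (Module.Dual F V) := by
    have h1 := Module.natCard_eq_pow_finrank (K := F) (V := Module.Dual F V)
    rw [h1, Subspace.dual_finrank_eq]
    have h2 : 0 < Module.finrank F V := Module.finrank_pos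
    have h3 : p ∣ Nat.card F := by
      have := Fintype.ofFinite F
      obtain ⟨n, -, hn⟩ := FiniteField.card F p
      rw [Nat.card_eq_fintype_card, hn]
      exact dvd_pow_self p n.pos.ne'
    exact h3.trans (dvd_pow_self _ h2.ne')
  obtain ⟨f, hf, hne⟩ := hQ.exists_fixed_point_of_prime_dvd_card_of_fixed_point (Module.Dual F V) hcard
    (a := 0) (fun x => by ext v; rw [hsm]; rfl)
  refine ⟨f, fun h => hne h.symm, fun x v => ?_⟩
  have h1 := hf x⁻¹
  have h2 := congrArg (fun g : Module.Dual F V => g v) h1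
  simp only [hsm, inv_inv] at h2
  exact h2

/-- an element of order 7 for a given Sylow 2-subgroup -/
theorem ree_data' {K : Type*} [Field K] [Fintype K] {m : ℕ} (hm : 1 ≤ m) (hK : Fintype.card K = 3 ^ (2 * m + 1))
    (S : Sylow 2 ↥(Cfsg.Lie.twistedG2 K (3 ^ m))) :
    ∃ g : ↥(Cfsg.Lie.twistedG2 K (3 ^ m)), (∀ s ∈ (S : Subgroup ↥(Cfsg.Lie.twistedG2 K (3 ^ m))), g⁻¹ * s * g ∈
      (S : Subgroup ↥(Cfsg.Lie.twistedG2 K (3 ^ m)))) ∧ g ^ 7 = 1 ∧
        ∀ s ∈ (S : Subgroup ↥(Cfsg.Lie.twistedG2 K (3 ^ m))), g⁻¹ * s * g = s → s = 1 := by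
  obtain ⟨a, haH, ha1, ha2⟩ := Cfsg.Agent.S1157.exists_involution hK
  obtain ⟨h8, hS⟩ := (Cfsg.Agent.S1152.result hK a haH ha1 ha2).2 S
  obtain ⟨hc, hn⟩ := Cfsg.Agent.S1157.result hm hK S
  have : Fact (Nat.Prime 7) := ⟨by norm_num⟩
  have hfinN : Finite (Subgroup.normalizer ((S : Subgroup ↥(Cfsg.Lie.twistedG2 K (3 ^ m))) :
      Set ↥(Cfsg.Lie.twistedG2 K (3 ^ m)))) := Nat.finite_of_card_ne_zero (by omega)
  obtain ⟨⟨g, hgN⟩, hg⟩ := exists_prime_orderOf_dvd_card' (G := Subgroup.normalizer ((S : Subgroup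
    ↥(Cfsg.Lie.twistedG2 K (3 ^ m))) : Set ↥(Cfsg.Lie.twistedG2 K (3 ^ m)))) 7 (by rw [hn]; norm_num)
  rw [Subgroup.orderOf_mk] at hg
  have hg7 : g ^ 7 = 1 := by rw [← hg, pow_orderOf_eq_one]
  have hgN' : ∀ s ∈ (S : Subgroup ↥(Cfsg.Lie.twistedG2 K (3 ^ m))), g⁻¹ * s * g ∈
      (S : Subgroup ↥(Cfsg.Lie.twistedG2 K (3 ^ m))) := by
    intro s hs
    have h1 := (Subgroup.mem_normalizer_iff.1 (inv_mem hgN) s).1 hs
    rwa [inv_inv] at h1
  refine ⟨g, hgN', hg7, fix_trivial h8 hgN' hg7 ?_⟩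
  by_contra h
  push Not at h
  have h1 : g ∈ Subgroup.centralizer ((S : Subgroup ↥(Cfsg.Lie.twistedG2 K (3 ^ m))) :
      Set ↥(Cfsg.Lie.twistedG2 K (3 ^ m))) := by
    rw [Subgroup.mem_centralizer_iff]
    intro s hs
    have h2 := h s hs
    calc s * g = g * (g⁻¹ * s * g) := by group
      _ = g * s := by rw [h2]
  rw [hc] at h1
  have h2 := hS g h1
  have h3 : orderOf g ∣ 2 := orderOf_dvd_of_pow_eq_one (by rw [pow_two, h2])
  rw [hg] at h3
  have := Nat.le_of_dvd (by norm_num) h3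
  omega

section base

variable {F : Type*} [Field F] {ι : Type} [Fintype ι] [DecidableEq ι]

/-- the torus `⟨f t₀ ^ 2⟩` centralises the fixed vectors of the four-group `V` -/
theorem torus_fix [CharP F 3] {G : Type*} [Group G] [Finite G] {L : Type*} [Group L] {q : ℕ} {a : G} {f : L →* G}
    {i j u t₀ : L} {T : Subgroup L} (S : ReeTorusB.Setup G L q a f i j u t₀ T) (φ : G →* GL ι F)
    (hn : Fintype.card ι < 14) {g : G} (hg : ∀ s ∈ E8 S, g⁻¹ * s * g ∈ E8 S) (hg7 : g ^ 7 = 1)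
    (hfix : ∀ s ∈ E8 S, g⁻¹ * s * g = s → s = 1) {v : ι → F}
    (hv : ∀ b ∈ S.V, (φ b : Matrix ι ι F) *ᵥ v = v) : (φ (f t₀ ^ 2) : Matrix ι ι F) *ᵥ v = v := by
  classical
  have h3p : Fact (Nat.Prime 3) := ⟨Nat.prime_three⟩
  set κ : F →+* AlgebraicClosure F := algebraMap F (AlgebraicClosure F) with hκ
  have hinj : Function.Injective κ := κ.injective
  have : CharP (AlgebraicClosure F) 3 := charP_of_injective_ringHom hinj 3
  set φ' : G →* GL ι (AlgebraicClosure F) := (Matrix.GeneralLinearGroup.map κ).comp φ with hφ'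
  have hφv : ∀ (x : G) (w : ι → F), (φ' x : Matrix ι ι (AlgebraicClosure F)) *ᵥ (κ ∘ w) =
      κ ∘ ((φ x : Matrix ι ι F) *ᵥ w) := by
    intro x w
    have h1 : (φ' x : Matrix ι ι (AlgebraicClosure F)) = (φ x : Matrix ι ι F).map κ := rfl
    rw [h1]
    funext k
    exact (RingHom.map_mulVec κ (φ x : Matrix ι ι F) w k).symm
  -- an element of order three of `N(V)`
  have hfinN : Finite S.N := inferInstance
  obtain ⟨⟨r, hrN⟩, hr⟩ := exists_prime_orderOf_dvd_card' (G := S.N) 3 (by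
    rw [S.card_N]
    exact Dvd.dvd.mul_right (by norm_num) _)
  rw [Subgroup.orderOf_mk] at hr
  have hr3 : r ^ 3 = 1 := by rw [← hr, pow_orderOf_eq_one]
  have hyA : f t₀ ^ 2 ∈ S.A := Subgroup.mem_zpowers _
  obtain ⟨k, hk⟩ : ∃ k : ℕ, r⁻¹ * (f t₀ ^ 2) * r = (f t₀ ^ 2) ^ k := by
    have h1 : r⁻¹ * (f t₀ ^ 2) * r ∈ Subgroup.zpowers (f t₀ ^ 2) := S.N_norm_A hrN hyA
    rw [← mem_powers_iff_mem_zpowers] at h1
    obtain ⟨k, hk⟩ := h1
    exact ⟨k, hk.symm⟩
  have h := fix_of_loc ((actHom ι (AlgebraicClosure F)).comp φ') (S := E8 S) (V := S.V)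
    (two_ne_zero_of_char (F := AlgebraicClosure F)) (by rw [Module.finrank_fintype_fun_eq_card]; exact hn)
    (fun s hs => E8_sq S hs) hg hg7 hfix (V_le_E8 S) (fj_mem_E8 S) (fun x hx => E8_cov S hx) (y := f t₀ ^ 2)
    (fun v hv => (S.A_comm_V hyA hv).symm)
    (by
      intro h0
      exact S.not_three_dvd hyA ((CharP.cast_eq_zero_iff (AlgebraicClosure F) 3 _).1 h0))
    (S.odd_of_mem_A hyA)
    (by
      have h1 := S.ht.inv t₀ S.t0_mem
      have h2 : f j * f t₀ * (f j)⁻¹ = (f t₀)⁻¹ := by rw [← map_mul, ← map_inv, ← map_mul, h1, map_inv]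
      calc f j * f t₀ ^ 2 * (f j)⁻¹ = (f j * f t₀ * (f j)⁻¹) ^ 2 := (conj_pow (i := 2)).symm
        _ = (f t₀ ^ 2)⁻¹ := by rw [h2, inv_pow])
    hr3
    (fun v hv => by
      have := S.N_conj (S.N.inv_mem hrN) hv
      rwa [inv_inv] at this)
    hk
    (fun n hn' => by
      by_contra hne
      have hyn : (f t₀ ^ 2) ^ n ∈ S.A := S.A.pow_mem hyA n
      apply S.no3 r hr ((f t₀ ^ 2) ^ n) (S.odd_of_mem_A hyn) (S.not_three_dvd hyn) hne
      calc r * (f t₀ ^ 2) ^ n = r * (r⁻¹ * (f t₀ ^ 2) ^ n * r) := by rw [hn']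
        _ = (f t₀ ^ 2) ^ n * r := by group)
    (v := κ ∘ v)
    (fun b hb => by
      rw [MonoidHom.comp_apply, actHom_apply, hφv, hv b hb])
  rw [MonoidHom.comp_apply, actHom_apply, hφv] at h
  funext k'
  exact hinj (congrFun h k')

end base

variable {F : Type u} [Field F] [Finite F] {ι : Type} [Fintype ι] [DecidableEq ι]
variable {P : Subgroup (GL ι F)} {K : Type v} [Field K] [Fintype K] {m : ℕ}

/-- **Ree groups in characteristic three**: degree at most 13 implies degree 7. -/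
theorem ree_eq_seven [CharP F 3] (hC : Core P) (hm : 1 ≤ m) (hK : Fintype.card K = 3 ^ (2 * m + 1))
    (e : Soc P ≃* ↥(Cfsg.Lie.twistedG2 K (3 ^ m))) (hn : Fintype.card ι ≤ 13) : Fintype.card ι = 7 := by
  classical
  have h3p : Fact (Nat.Prime 3) := ⟨Nat.prime_three⟩
  have h7 := ree_seven hC hm hK e
  by_contra hne
  have h8 : 8 ≤ Fintype.card ι := by omega
  obtain ⟨φ, hr, hφ⟩ := exists_hom hC hm hK e
  have hfin : Finite ↥(Cfsg.Lie.twistedG2 K (3 ^ m)) := by
    apply Nat.finite_of_card_ne_zero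
    rw [Cfsg.Agent.LieRecognition.ReeFinal.card hK]
    have h1 : 0 < 3 ^ (2 * m + 1) := by positivity
    have h2 : 0 < 3 ^ (2 * m + 1) - 1 := by
      have : 3 ^ 1 ≤ 3 ^ (2 * m + 1) := Nat.pow_le_pow_right (by norm_num) (by omega)
      omega
    positivity
  have hch : CharP K 3 := ReeAbs.charP_three hK
  have hq27 : 27 ≤ 3 ^ (2 * m + 1) := by
    calc 27 = 3 ^ 3 := by norm_num
      _ ≤ 3 ^ (2 * m + 1) := Nat.pow_le_pow_right (by norm_num) (by omega)
  obtain ⟨U, h, n, D⟩ : ∃ U h n, ReeAbs.Data (K := K) (G := ↥(Cfsg.Lie.twistedG2 K (3 ^ m))) m U h n :=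
    ⟨_, _, _, ReeFinal.data hK⟩
  obtain ⟨f, t₀, S⟩ := ReeSetup.exists_setup D hK (Cfsg.Agent.S1116.result hK hm) (ReeSetup.local_of_data D hK)
  -- the Sylow 2-subgroup
  have hE8 := card_E8 S
  have hE2 : IsPGroup 2 (E8 S) := IsPGroup.of_card (n := 3) (by rw [hE8]; norm_num)
  obtain ⟨Q, hQ⟩ := hE2.exists_le_sylow
  have hQ8 : Nat.card Q = 8 := (D.sylow_two hK (ReeFinal.card hK) Q).1
  have hEQ : E8 S = (Q : Subgroup ↥(Cfsg.Lie.twistedG2 K (3 ^ m))) := by
    apply Subgroup.eq_of_le_of_card_ge hQ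
    rw [hE8]
    exact hQ8.le
  obtain ⟨g, hg, hg7, hfix⟩ := ree_data' hm hK Q
  rw [← hEQ] at hg hfix
  have h2F : (2 : F) ≠ 0 := two_ne_zero_of_char
  set ρ := (actHom ι F).comp φ with hρ
  have hρa : ∀ x v, ρ x v = (φ x : Matrix ι ι F) *ᵥ v := fun x v => by
    rw [hρ, MonoidHom.comp_apply, actHom_apply]
  -- the pointwise stabiliser of the fixed space
  let M : Subgroup ↥(Cfsg.Lie.twistedG2 K (3 ^ m)) :=
    { carrier := {x | ∀ v, (∀ s ∈ E8 S, ρ s v = v) → ρ x v = v}
      one_mem' := fun v _ => by rw [map_one, Module.End.one_apply]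
      mul_mem' := fun {x y} hx hy v hv => by
        rw [map_mul, Module.End.mul_apply, hy v hv, hx v hv]
      inv_mem' := fun {x} hx v hv => by
        have h1 : ρ x⁻¹ (ρ x v) = v := by
          rw [← Module.End.mul_apply, ← map_mul, inv_mul_cancel, map_one, Module.End.one_apply]
        rwa [hx v hv] at h1 }
  have hM : ∀ x, x ∈ M ↔ ∀ v, (∀ s ∈ E8 S, ρ s v = v) → ρ x v = v := fun _ => Iff.rfl
  have hEM : E8 S ≤ M := fun x hx v hv => hv x hx
  have hYM : f t₀ ^ 2 ∈ M := by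
    intro v hv
    rw [hρa]
    refine torus_fix S φ (by omega) hg hg7 hfix fun b hb => ?_
    rw [← hρa]
    exact hv b (V_le_E8 S hb)
  have hNM : ∀ x, (∀ s ∈ E8 S, x⁻¹ * s * x ∈ E8 S) → ∀ k ∈ M, x * k * x⁻¹ ∈ M := by
    intro x hx k hk v hv
    have hx' : ∀ s ∈ E8 S, x * s * x⁻¹ ∈ E8 S := by
      intro s hs
      have hinj : Function.Injective fun s : E8 S => (⟨x⁻¹ * s * x, hx s s.2⟩ : E8 S) := by
        intro a b hab
        have h1 : x⁻¹ * (a : ↥(Cfsg.Lie.twistedG2 K (3 ^ m))) * x = x⁻¹ * b * x := congrArg Subtype.val hab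
        exact Subtype.ext (mul_left_cancel (mul_right_cancel h1))
      obtain ⟨s', hs'⟩ := (Finite.surjective_of_injective hinj) ⟨s, hs⟩
      have h1 : x⁻¹ * (s' : ↥(Cfsg.Lie.twistedG2 K (3 ^ m))) * x = s := congrArg Subtype.val hs'
      rw [← h1]
      have : x * (x⁻¹ * (s' : ↥(Cfsg.Lie.twistedG2 K (3 ^ m))) * x) * x⁻¹ = s' := by group
      rw [this]
      exact s'.2
    have h1 : ∀ s ∈ E8 S, ρ s (ρ x⁻¹ v) = ρ x⁻¹ v := by
      intro s hs
      have h2 : s * x⁻¹ = x⁻¹ * (x * s * x⁻¹) := by group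
      rw [← Module.End.mul_apply, ← map_mul, h2, map_mul, Module.End.mul_apply, hv _ (hx' s hs)]
    rw [map_mul, map_mul, Module.End.mul_apply, Module.End.mul_apply, hk _ h1, ← Module.End.mul_apply, ← map_mul,
      mul_inv_cancel, map_one, Module.End.one_apply]
  -- maximality of the centraliser of an involution of `PSL₂`
  have hco : IsCoatom (Subgroup.centralizer ({ReePSL.pr K Cfsg.Agent.ClassicalGeometry.SLTwoFour.w} :
      Set (ReePSL.L K))) := by
    have h2K : (2 : K) ≠ 0 := by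
      intro h0
      have h1 : ((2 : ℕ) : K) = 0 := by exact_mod_cast h0
      have h3 := (CharP.cast_eq_zero_iff K 3 2).1 h1
      omega
    exact Cfsg.Agent.LFourB.KSL.isCoatom_centralizer h2K (by rw [hK]; omega) S.hk.i_ne S.hk.ii
  have hfac := factor D hK S hEM hYM hNM (by omega) hco hg hg7 hfix
  -- the fixed vector
  obtain ⟨c, hc0, hc⟩ := exists_fixed ρ h2F hE8 (fun s hs => E8_sq S hs) hg hg7 hfix
    (by rw [Module.finrank_fintype_fun_eq_card]; omega) (by rw [Module.finrank_fintype_fun_eq_card]; exact h8)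
  have hcM : ∀ k ∈ M, ρ k c = c := fun k hk => hk c hc
  -- the functional
  have hne' : Nonempty ι := Fintype.card_pos_iff.1 (by omega)
  have hU3 : IsPGroup 3 (ReeSylowThree.uSub D) := by
    apply IsPGroup.of_card (n := (2 * m + 1) * 3)
    rw [ReeSylowThree.card_uSub D, hK, pow_mul]
  obtain ⟨F₀, hF₀, hF₀U⟩ := exists_dual_fixed (p := 3) hU3 (ρ.comp (ReeSylowThree.uSub D).subtype)
  have hUv : ∀ t u v w, F₀ (ρ (U t u v) w) = F₀ w := fun t u v w => hF₀U ⟨U t u v, t, u, v, rfl⟩ w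
  have hhc : ∀ a, ρ (h a) c = c := fun a => hcM _ (cent_le_of S hEM hYM hNM (by omega) hco (D.h_comm _ _))
  have hconst : ∀ x, F₀ (ρ x c) = F₀ c := by
    intro x
    obtain ⟨k, hk, b, hb, hx⟩ := hfac x⁻¹
    obtain ⟨t, u, v, a, hbe⟩ := (mem_bSub D).1 ((ReeSplit.bSub D).inv_mem hb)
    have h1 : x = U t u v * h a * k⁻¹ := by
      rw [← hbe, ← _root_.mul_inv_rev, ← hx, inv_inv]
    rw [h1, map_mul, map_mul, Module.End.mul_apply, Module.End.mul_apply, hcM _ (M.inv_mem hk), hhc, hUv]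
  -- irreducibility
  have hirr : ∀ W : Submodule F (ι → F), (∀ x, ∀ w ∈ W, ρ x w ∈ W) → W = ⊥ ∨ W = ⊤ := by
    intro W hW
    apply hC.absIrred.1 W
    rintro _ ⟨y, hy, rfl⟩
    rw [SetLike.mem_coe, ← hr] at hy
    obtain ⟨x, rfl⟩ := hy
    rintro _ ⟨w, hw, rfl⟩
    rw [Matrix.toLin'_apply, ← hρa]
    exact hW x w hw
  let W : Submodule F (ι → F) :=
    { carrier := {v | ∀ x, F₀ (ρ x v) = F₀ v}
      add_mem' := fun {a b} ha hb x => by rw [map_add, map_add, map_add, ha, hb]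
      zero_mem' := fun x => by rw [map_zero]
      smul_mem' := fun r a ha x => by rw [map_smul, map_smul, map_smul, ha] }
  have hWtop : W = ⊤ := by
    rcases hirr W (fun x w hw y => by
      rw [← Module.End.mul_apply, ← map_mul, hw (y * x), hw x]) with h1 | h1
    · exfalso
      have h2 : c ∈ W := hconst
      rw [h1, Submodule.mem_bot] at h2
      exact hc0 h2
    · exact h1
  have hFinv : ∀ v x, F₀ (ρ x v) = F₀ v := by
    intro v
    have h1 : v ∈ W := by rw [hWtop]; exact Submodule.mem_top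
    exact h1
  rcases hirr (LinearMap.ker F₀) (fun x w hw => by
    rw [LinearMap.mem_ker] at hw ⊢
    rw [hFinv, hw]) with h1 | h1
  · have h2 := LinearMap.finrank_le_finrank_of_injective (LinearMap.ker_eq_bot.1 h1)
    rw [Module.finrank_fintype_fun_eq_card, Module.finrank_self] at h2
    omega
  · exact hF₀ (LinearMap.ker_eq_top.1 h1)

end Cfsg.Agent.H708.ReeSix
end
end
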